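import Cfsg.Agent.H112.GLB.Abs
import Cfsg.Agent.H505.S4536.DC.Main
import Cfsg.Agent.H577.GLB.Fam

/-!
# HUB S4536 / S4537: blocks, families and labels (GB2, GB3, GB4, GB4'), with (GB1) as the only hypothesis

* `Rz.exists_pOnly_mem'`, `Rz.card_fixed_le'` : abstract realization, only hypothesis `R.Bij m`;
* `Rz.isUnion_fam` : a family is a union of blocks;
* `exists_pOnly_mem_lab`, `card_fixed_le_lab`, `stab_of_block_lab`, `isUnion_famSet_lab` : the statements of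
  `tools/plans/S4536_gl.lean` for `GL_n(F)` with the hypothesis `hlab : LabBij F θ M m n` (= `isLab_bij`).
-/

set_option autoImplicit false
set_option linter.unusedSectionVars false

open Cfsg
open scoped ComplexConjugate

namespace Cfsg.Agent.H112.GLB

open Cfsg.Agent.H577.GLB.Std Cfsg.Agent.H614
open Cfsg.Agent.H657 Cfsg.Agent.H608.BlockRank Cfsg.Agent.Blocks.Basic Cfsg.Agent.Blocks.Local

universe u

theorem tauSpan {Q : ℤ} {M : ℕ} [NeZero M] {p : ℕ} (hp : p.Prime) (hQ : IsUnit (Q : ZMod M)) {m n : ℕ}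
    (hm : n ≤ m) : TauSpan Q M p m n := fun t => H505.S4536.DC.tau_mem_span hp hQ hm t

theorem tauInd {Q : ℤ} {M : ℕ} [NeZero M] {p : ℕ} (hp : p.Prime) (hQ : IsUnit (Q : ZMod M)) {m n : ℕ} :
    TauInd Q M p m n := H505.S4536.DC.tau_linearIndependent hp hQ m n

namespace Rz

variable {Q : ℤ} {M : ℕ} [NeZero M] {p n : ℕ} {G : Type u} [Group G] [Finite G] (R : Rz Q M p n G)
  {𝔐 : Ideal AlgInt} {V : ValuationSubring ℂ}

/-- **(D2').** Every block contains a character with labels of order prime to `p`. -/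
theorem exists_pOnly_mem' (h𝔐 : IsPModular p 𝔐) {m : ℕ} (hm : n ≤ m) (hlab : R.Bij m)
    {B : Set (IrrCharacter G)} (hB : IsPBlock 𝔐 B) : ∃ χ ∈ B, ∃ t : LabZ Q M m n, R.IsLb χ t ∧ POnly M p t.t :=
  R.exists_pOnly_mem h𝔐 hlab (fun S hS hcl => H505.S4536.DC.exists_pOnly_of h𝔐.1 R.unit
    (fun hx hy => H120.GLB.Tau.form_tauP h𝔐.1 R.unit hx hy) hm S hS hcl) hB

/-- **(GB4).** The Brauer characters of a block fixed by a linear character of order prime to `p`. -/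
theorem card_fixed_le' (h𝔐 : IsPModular p 𝔐) (hV : Above 𝔐 V) {m : ℕ} (hm : n ≤ m) (hlab : R.Bij m)
    {B : Set (IrrCharacter G)} (hB : IsPBlock 𝔐 B)
    {χ : IrrCharacter G} (hχ : χ ∈ B) {t : LabZ Q M m n} (ht : R.IsLb χ t)
    (a : ZMod M) (ha : TorZ Q M 1 a) (ha' : PReg M p a)
    (l : G →* ℂˣ) (hl : ∀ x ∈ Hom Q M n, R.om (twist Q M a x) = (fun g => (l g : ℂ)) * R.om x) :
    Nat.card {i : IBr V G // i ∈ ibrUnder V B ∧ (fun g => (l g : ℂ) * phi p i g) = phi p i} ≤ nfix Q M p t a :=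
  R.card_fixed_le h𝔐 hV hm hlab (tauSpan h𝔐.1 R.unit hm) (tauInd h𝔐.1 R.unit) hB hχ ht a ha ha' l hl

/-- A family of characters is a union of blocks. -/
theorem isUnion_fam (h𝔐 : IsPModular p 𝔐) {m : ℕ} (hm : n ≤ m) (hlab : R.Bij m) (t₀ : LabZ Q M m n) :
    IsUnion 𝔐 {χ : IrrCharacter G | ∃ t : LabZ Q M m n, R.IsLb χ t ∧ SameFam Q M p t₀.t t.t} := by
  rintro χ ψ h ⟨t, ht, hf⟩
  obtain ⟨t', ht', -⟩ := hlab.1 ψ
  have := isPrime_of_isPModular h𝔐
  exact ⟨t', ht', SameFam.trans' hf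
    (R.sameFam_of_mem h𝔐 hm hlab (B := blockOf 𝔐 (χ : G → ℂ)) ⟨χ, rfl⟩ (mem_blockOf_self χ) h ht ht')⟩

/-- The Brauer characters of a family are the combinations of the truncations of its `p'`-labelled characters. -/
theorem phi_mem_span' (h𝔐 : IsPModular p 𝔐) (hV : Above 𝔐 V) {m : ℕ} (hm : n ≤ m) (hlab : R.Bij m)
    (t₀ : LabZ Q M m n) {i : IBr V G}
    (hi : i ∈ ibrUnder V {χ : IrrCharacter G | ∃ t : LabZ Q M m n, R.IsLb χ t ∧ SameFam Q M p t₀.t t.t}) :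
    phi p i ∈ Submodule.span ℂ ((fun t' : {t : LabZ Q M m n // POnly M p t.t} =>
      R.om (tauP Q M p (SchP Q M t'.1.t))) '' {t' | SameFam Q M p t₀.t t'.1.t}) := by
  obtain ⟨χ, ⟨t, ht, hf⟩, hiχ⟩ := hi
  have := isPrime_of_isPModular h𝔐
  have h := R.phi_mem_span h𝔐 hV hm hlab (tauSpan h𝔐.1 R.unit hm) (B := blockOf 𝔐 (χ : G → ℂ)) ⟨χ, rfl⟩
    (mem_blockOf_self χ) ht ⟨χ, mem_blockOf_self χ, hiχ⟩
  refine Submodule.span_mono (Set.image_mono ?_) h
  intro t' ht'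
  exact SameFam.trans' hf ht'

end Rz

/-! ### `GL_n(F)` -/

section glsec

open Cfsg.Agent.H577.GLB.Real Cfsg.Agent.H614.GLn

universe w

variable {F : Type u} [Field F] [Finite F] {K : Type w} [Field K] [Algebra F K] {θ : K →*₀ ℂ} {N M : ℕ} [NeZero M]
  {p : ℕ} {𝔐 : Ideal AlgInt} {V : ValuationSubring ℂ}

/-- **GB3.** Every block contains a character with labels of order prime to `p`. -/
theorem exists_pOnly_mem_lab (hctx : Ctx F θ N M) (hpF : p ≠ ringChar F) (h𝔐 : IsPModular p 𝔐) {m n : ℕ}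
    (hn : n ≤ N) (hm : n ≤ m) (hlab : LabBij F θ M m n) {B : Set (IrrCharacter (GL (Fin n) F))}
    (hB : IsPBlock 𝔐 B) : ∃ χ ∈ B, ∃ t : LabZ (Nat.card F) M m n, IsLab θ M m n χ t ∧ POnly M p t.t :=
  (GLrz hctx h𝔐.1 hpF hn).exists_pOnly_mem' h𝔐 hm hlab hB

/-- **GB4.** The Brauer characters of a block fixed by a linear character of order prime to `p`. -/
theorem card_fixed_le_lab (hctx : Ctx F θ N M) (hpF : p ≠ ringChar F) (h𝔐 : IsPModular p 𝔐) (hV : Above 𝔐 V)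
    {m n : ℕ} (hn : n ≤ N) (hm : n ≤ m) (hlab : LabBij F θ M m n) {B : Set (IrrCharacter (GL (Fin n) F))}
    (hB : IsPBlock 𝔐 B) {χ : IrrCharacter (GL (Fin n) F)} (hχ : χ ∈ B) {t : LabZ (Nat.card F) M m n}
    (ht : IsLab θ M m n χ t) (_ht' : POnly M p t.t) (a : ZMod M) (ha : TorZ (Nat.card F) M 1 a) (ha' : PReg M p a) :
    Nat.card {i : IBr V (GL (Fin n) F) // i ∈ ibrUnder V B ∧
      (fun g => lin F θ M a (Matrix.GeneralLinearGroup.det g) * phi p i g) = phi p i} ≤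
      nfix (Nat.card F) M p t a := by
  have h := (GLrz hctx h𝔐.1 hpF hn).card_fixed_le' h𝔐 hV hm hlab hB hχ ht a ha ha' (linHom F θ M n a)
    (om_twist hctx hn a ha)
  simp only [linHom_apply] at h
  exact h

/-- **GB4'.** A linear character of order prime to `p` stabilising the block stabilises the family. -/
theorem stab_of_block_lab (hctx : Ctx F θ N M) (hpF : p ≠ ringChar F) (h𝔐 : IsPModular p 𝔐)
    {m n : ℕ} (hn : n ≤ N) (hm : n ≤ m) (hlab : LabBij F θ M m n) {B : Set (IrrCharacter (GL (Fin n) F))}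
    (hB : IsPBlock 𝔐 B) {χ χ' : IrrCharacter (GL (Fin n) F)} (hχ : χ ∈ B) (hχ' : χ' ∈ B)
    {t : LabZ (Nat.card F) M m n} (ht : IsLab θ M m n χ t) (_ht' : POnly M p t.t) (a : ZMod M)
    (ha : TorZ (Nat.card F) M 1 a) (ha' : PReg M p a)
    (h : ∀ g, (χ' : GL (Fin n) F → ℂ) g =
      lin F θ M a (Matrix.GeneralLinearGroup.det g) * (χ : GL (Fin n) F → ℂ) g) :
    Stab (Nat.card F) M p t a :=
  stab_of_block_of hctx hn (fun _ hχ _ hχ' _ _ ht ht' =>
    sameFam_of_mem_of hctx hpF h𝔐 hn hm hlab hB hχ hχ' ht ht') hχ hχ' ht a ha ha' h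

/-- The families are unions of blocks. -/
theorem isUnion_famSet_lab (hctx : Ctx F θ N M) (hpF : p ≠ ringChar F) (h𝔐 : IsPModular p 𝔐) {m n : ℕ}
    (hn : n ≤ N) (hm : n ≤ m) (hlab : LabBij F θ M m n) (t₀ : LabZ (Nat.card F) M m n) :
    IsUnion 𝔐 (famSet θ p t₀) :=
  (GLrz hctx h𝔐.1 hpF hn).isUnion_fam h𝔐 hm hlab t₀

end glsec

end Cfsg.Agent.H112.GLB
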