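import Cfsg.Agent.H112.GLB.Gb3
import Cfsg.Agent.H614.GLn.RSFam
import Cfsg.Agent.H614.Union
import Cfsg.Agent.H501.GLn.Reg
import Cfsg.Agent.H809.GLB.TwistLin

/-!
# HUB S4536 / S4537: blocks and labels for an abstract realization of the standard model

`Rz Q M p n G` : a realization of the degree `n` part of the standard model `RS M` in the functions on the finite
group `G`: an isometry (`iso`) compatible with the truncation to the `p`-regular elements (`tau`).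
`R.IsLb χ t` : `t` is the label of `χ`.  `R.Bij m` : the labels classify the irreducible characters.

* `Rz.exists_pOnly_mem` : every block contains a character with `p'`-label (D2');
* `Rz.isLb_shift`, `Rz.stab_of_block` : linear characters act on the labels by translations;
* `Rz.phi_mem_span`, `Rz.card_fixed_le` : Brauer characters of a block fixed by a linear character (GB4);
* `Rz.sameFam_of_mem` : blocks are contained in families (GB2);
* `tauReal`, `GLrz` : the instance `GL_n(F)`; `sameFam_of_mem_of` : GB2 for `GL_n(F)` (hypothesis: GB1).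
-/

set_option autoImplicit false
set_option linter.unusedSectionVars false

open Cfsg
open scoped ComplexConjugate

namespace Cfsg.Agent.H112.GLB

open Cfsg.Agent.H577.GLB.Std Cfsg.Agent.H614
open Cfsg.Agent.H657 Cfsg.Agent.H608.BlockRank Cfsg.Agent.Blocks.Basic Cfsg.Agent.Blocks.Local

universe u

/-- a realization of the degree `n` part of the standard model in the functions on `G` -/
structure Rz (Q : ℤ) (M : ℕ) [NeZero M] (p n : ℕ) (G : Type u) [Group G] where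
  /-- the realization -/
  om : RS M →ₗ[ℂ] (G → ℂ)
  unit : IsUnit (Q : ZMod M)
  iso : ∀ [Fintype G], ∀ x ∈ Hom Q M n, ∀ y ∈ Hom Q M n, classInner (om x) (om y) = form Q M x y
  tau : ∀ x ∈ Hom Q M n, om (tauP Q M p x) = pReg p (om x)

namespace Rz

variable {Q : ℤ} {M : ℕ} [NeZero M] {p n : ℕ} {G : Type u} [Group G] [Finite G] (R : Rz Q M p n G)

/-- `t` is the label of `χ` -/
def IsLb {m : ℕ} (χ : IrrCharacter G) (t : LabZ Q M m n) : Prop :=
  ∃ s : ℤˣ, R.om (SchP Q M t.t) = (((s : ℤ) : ℂ)) • (χ : G → ℂ)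

/-- the labels classify the irreducible characters -/
def Bij (m : ℕ) : Prop :=
  (∀ χ : IrrCharacter G, ∃! t : LabZ Q M m n, R.IsLb χ t) ∧ (∀ t : LabZ Q M m n, ∃! χ : IrrCharacter G, R.IsLb χ t)

theorem om_injOn : Set.InjOn R.om (Hom Q M n : Submodule ℂ (RS M)) := by
  have : Fintype G := Fintype.ofFinite _
  intro x hx y hy hxy
  rw [← sub_eq_zero]
  refine eq_zero_of_form (Q := Q) (n := n) (Submodule.sub_mem _ hx hy) ?_
  rw [← R.iso _ (Submodule.sub_mem _ hx hy) _ (Submodule.sub_mem _ hx hy), map_sub, hxy, sub_self, Cfsg.classInner]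
  simp

theorem om_tauP {m : ℕ} (t : LabZ Q M m n) :
    R.om (tauP Q M p (SchP Q M t.t)) = pReg p (R.om (SchP Q M t.t)) :=
  R.tau _ (schP_mem_hom R.unit t)

variable {𝔐 : Ideal AlgInt} {V : ValuationSubring ℂ}

/-- **(D2').** Every block contains a character with labels of order prime to `p`. -/
theorem exists_pOnly_mem (h𝔐 : IsPModular p 𝔐) {m : ℕ} (hlab : R.Bij m)
    (hPO : ∀ S : Set (LabZ Q M m n), S.Nonempty →
      (∀ t ∈ S, ∀ t' ∉ S, form Q M (tauP Q M p (SchP Q M t.t)) (SchP Q M t'.t) = 0) → ∃ t ∈ S, POnly M p t.t)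
    {B : Set (IrrCharacter G)} (hB : IsPBlock 𝔐 B) :
    ∃ χ ∈ B, ∃ t : LabZ Q M m n, R.IsLb χ t ∧ POnly M p t.t := by
  have := isPrime_of_isPModular h𝔐
  have : Fintype G := Fintype.ofFinite _
  obtain ⟨χ₀, hχ₀⟩ := id hB
  obtain ⟨t, ⟨χ, hχ, hχt⟩, ht⟩ := hPO {t | ∃ χ ∈ B, R.IsLb χ t}
    (by
      obtain ⟨t, ht, -⟩ := hlab.1 χ₀
      exact ⟨t, χ₀, by rw [hχ₀]; exact mem_blockOf_self χ₀, ht⟩)
    (by
      rintro t ⟨χ, hχ, s, hs⟩ t' ht'
      obtain ⟨χ', ⟨s', hs'⟩, -⟩ := hlab.2 t'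
      have hχ' : χ' ∉ B := fun h => ht' ⟨χ', h, s', hs'⟩
      rw [← R.iso _ (tauP_mem_hom p (schP_mem_hom R.unit t)) _ (schP_mem_hom R.unit t'), R.om_tauP, hs, hs',
        map_smul, Characters.Core.classInner_smul_left, Characters.Core.classInner_smul_right,
        classInner_eq_zero (map_pReg_le h𝔐 (isUnion_of_isPBlock hB) ⟨_, Submodule.subset_span ⟨χ, hχ, rfl⟩, rfl⟩) hχ',
        mul_zero, mul_zero])
  exact ⟨χ, hχ, t, hχt, ht⟩

theorem classInner_tau [Fintype G] {m m' : ℕ} {χ χ' : IrrCharacter G} {t : LabZ Q M m n} {t' : LabZ Q M m' n}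
    (ht : R.IsLb χ t) (ht' : R.IsLb χ' t')
    (h : form Q M (tauP Q M p (SchP Q M t.t)) (SchP Q M t'.t) = 0) :
    classInner (pReg p (χ : G → ℂ)) (χ' : G → ℂ) = 0 := by
  obtain ⟨s, hs⟩ := ht
  obtain ⟨s', hs'⟩ := ht'
  rw [← R.iso _ (tauP_mem_hom p (schP_mem_hom R.unit t)) _ (schP_mem_hom R.unit t'), R.om_tauP, hs, hs',
    map_smul, Characters.Core.classInner_smul_left, Characters.Core.classInner_smul_right] at h
  have h1 : ∀ s : ℤˣ, (((s : ℤ) : ℂ)) ≠ 0 := fun s => by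
    rcases Int.units_eq_one_or s with rfl | rfl <;> norm_num
  have h2 := (mul_eq_zero.1 h).resolve_left (h1 s)
  exact (mul_eq_zero.1 h2).resolve_left fun h3 => h1 s' ((map_eq_zero _).1 h3)

/-- **Blocks are contained in families** (GB2). -/
theorem sameFam_of_mem (h𝔐 : IsPModular p 𝔐) {m : ℕ} (hm : n ≤ m) (hlab : R.Bij m)
    {B : Set (IrrCharacter G)} (hB : IsPBlock 𝔐 B) {χ χ' : IrrCharacter G} (hχ : χ ∈ B) (hχ' : χ' ∈ B)
    {t t' : LabZ Q M m n} (ht : R.IsLb χ t) (ht' : R.IsLb χ' t') : SameFam Q M p t.t t'.t := by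
  classical
  have : Fact p.Prime := ⟨h𝔐.1⟩
  have := isPrime_of_isPModular h𝔐
  have : Fintype G := Fintype.ofFinite _
  have := Characters.Core.finite_irr (G := G)
  have : Fintype (IrrCharacter G) := Fintype.ofFinite _
  let U : Set (IrrCharacter G) := {ψ | ∃ t' : LabZ Q M m n, R.IsLb ψ t' ∧ SameFam Q M p t.t t'.t}
  have hU : Separated p U := by
    rintro ψ ⟨t₁, ht₁, hf₁⟩ ψ' hψ'
    obtain ⟨t₂, ht₂, -⟩ := hlab.1 ψ'
    have hf₂ : ¬ SameFam Q M p t₁.t t₂.t := fun h => hψ' ⟨t₂, ht₂, SameFam.trans' hf₁ h⟩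
    have h1 := R.classInner_tau ht₁ ht₂ (H614.GLn.RSt.tau_fam R.unit h𝔐.1 hm t₁ t₂ hf₂)
    rw [Cfsg.classInner] at h1
    have h2 := (mul_eq_zero.1 h1).resolve_left (inv_ne_zero (Nat.cast_ne_zero.2 Nat.card_pos.ne'))
    refine Eq.trans ?_ h2
    refine Finset.sum_congr rfl fun g _ => ?_
    by_cases hg : p ∣ orderOf g
    · rw [if_neg (not_not.2 hg), pReg_of_not (not_not.2 hg), zero_mul]
    · rw [if_pos hg, pReg_of hg]
  have hχU : χ ∈ U := ⟨t, ht, fun δ _ => ⟨rfl, SameCol.refl _ _⟩⟩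
  have h3 := blockOf_subset_of_separated h𝔐 hU hχU
  have h4 : χ' ∈ blockOf 𝔐 (χ : G → ℂ) := by
    obtain ⟨χ₀, rfl⟩ := hB
    exact sameBlock_trans (sameBlock_symm hχ) hχ'
  obtain ⟨t'', ht'', hf⟩ := h3 h4
  rwa [(hlab.1 χ').unique ht' ht'']

/-- the action of a linear character on the labels -/
theorem isLb_shift {m : ℕ} {χ χ' : IrrCharacter G} {t : LabZ Q M m n} (ht : R.IsLb χ t) {a : ZMod M}
    (ha : TorZ Q M 1 a) {l : G → ℂ} (hl : ∀ x ∈ Hom Q M n, R.om (twist Q M a x) = l * R.om x)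
    (h : (χ' : G → ℂ) = l * (χ : G → ℂ)) : R.IsLb χ' (shiftL t ha) := by
  obtain ⟨s, hs⟩ := ht
  refine ⟨s, ?_⟩
  have h1 := hl _ (schP_mem_hom R.unit t)
  rw [H157.GLB.twist_SchP R.unit a ha t.t t.orb, hs] at h1
  refine h1.trans ?_
  rw [h, mul_smul_comm]

/-- **(GB4').** A linear character of order prime to `p` stabilising the block stabilises the family. -/
theorem stab_of_block {m : ℕ} {B : Set (IrrCharacter G)}
    (hfam : ∀ χ ∈ B, ∀ χ' ∈ B, ∀ t t' : LabZ Q M m n, R.IsLb χ t → R.IsLb χ' t' → SameFam Q M p t.t t'.t)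
    {χ χ' : IrrCharacter G} (hχ : χ ∈ B) (hχ' : χ' ∈ B) {t : LabZ Q M m n}
    (ht : R.IsLb χ t) (a : ZMod M) (ha : TorZ Q M 1 a) (ha' : PReg M p a)
    {l : G → ℂ} (hl : ∀ x ∈ Hom Q M n, R.om (twist Q M a x) = l * R.om x)
    (h : (χ' : G → ℂ) = l * (χ : G → ℂ)) : Stab Q M p t a :=
  ⟨ha, ha', hfam χ hχ χ' hχ' t (shiftL t ha) ht (R.isLb_shift ht ha hl h)⟩

/-- the spanning property of the truncations of the `p'`-labelled characters (DC, D2'') -/
def _root_.Cfsg.Agent.H112.GLB.TauSpan (Q : ℤ) (M : ℕ) [NeZero M] (p m n : ℕ) : Prop :=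
  ∀ t : LabZ Q M m n, tauP Q M p (SchP Q M t.t) ∈ Submodule.span ℤ {x : RS M | ∃ t' : LabZ Q M m n,
    POnly M p t'.t ∧ SameFam Q M p t.t t'.t ∧ x = tauP Q M p (SchP Q M t'.t)}

/-- the linear independence of the truncations of the `p'`-labelled characters (DC, D2) -/
def _root_.Cfsg.Agent.H112.GLB.TauInd (Q : ℤ) (M : ℕ) [NeZero M] (p m n : ℕ) : Prop :=
  LinearIndependent ℂ (fun t : {t : LabZ Q M m n // POnly M p t.t} => tauP Q M p (SchP Q M t.1.t))

/-- The Brauer characters of a block are combinations of the truncations of the `p'`-labelled characters in the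
family of the block. -/
theorem phi_mem_span (h𝔐 : IsPModular p 𝔐) (hV : Above 𝔐 V) {m : ℕ} (hm : n ≤ m) (hlab : R.Bij m)
    (hmem : TauSpan Q M p m n) {B : Set (IrrCharacter G)} (hB : IsPBlock 𝔐 B)
    {χ : IrrCharacter G} (hχ : χ ∈ B) {t : LabZ Q M m n} (ht : R.IsLb χ t) {i : IBr V G} (hi : i ∈ ibrUnder V B) :
    phi p i ∈ Submodule.span ℂ ((fun t' : {t : LabZ Q M m n // POnly M p t.t} =>
      R.om (tauP Q M p (SchP Q M t'.1.t))) '' {t' | SameFam Q M p t.t t'.1.t}) := by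
  have := isPrime_of_isPModular h𝔐
  have h1 : phi p i ∈ (charSpan B).map (pReg p) := by
    rw [map_pReg_charSpan h𝔐 hV (isUnion_of_isPBlock hB)]
    exact Submodule.subset_span ⟨i, hi, rfl⟩
  refine (?_ : (charSpan B).map (pReg p) ≤ _) h1
  unfold charSpan
  rw [Submodule.map_span, Submodule.span_le]
  rintro _ ⟨_, ⟨χ₁, hχ₁, rfl⟩, rfl⟩
  obtain ⟨t₁, ht₁, -⟩ := hlab.1 χ₁
  have hf := R.sameFam_of_mem h𝔐 hm hlab hB hχ hχ₁ ht ht₁
  obtain ⟨s, hs⟩ := ht₁
  have h2 : pReg p (χ₁ : G → ℂ) = (((s : ℤ) : ℂ)) • R.om (tauP Q M p (SchP Q M t₁.t)) := by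
    rw [R.om_tauP, hs, map_smul, smul_smul]
    have h3 : (((s : ℤ) : ℂ)) * (((s : ℤ) : ℂ)) = 1 := by
      rcases Int.units_eq_one_or s with rfl | rfl <;> norm_num
    rw [h3, one_smul]
  rw [SetLike.mem_coe, h2]
  refine Submodule.smul_mem _ _ ?_
  have h4 := Submodule.span_subset_span ℤ ℂ _ (hmem t₁)
  have h5 := Submodule.mem_map_of_mem (f := R.om) h4
  rw [Submodule.map_span] at h5
  refine Submodule.span_mono ?_ h5
  rintro _ ⟨_, ⟨t', h6, h7, rfl⟩, rfl⟩
  exact ⟨⟨t', h6⟩, SameFam.trans' hf h7, rfl⟩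

/-- **(GB4).** The Brauer characters of a block fixed by a linear character of order prime to `p`. -/
theorem card_fixed_le (h𝔐 : IsPModular p 𝔐) (hV : Above 𝔐 V) {m : ℕ} (hm : n ≤ m) (hlab : R.Bij m)
    (hmem : TauSpan Q M p m n) (hli : TauInd Q M p m n) {B : Set (IrrCharacter G)} (hB : IsPBlock 𝔐 B)
    {χ : IrrCharacter G} (hχ : χ ∈ B) {t : LabZ Q M m n} (ht : R.IsLb χ t)
    (a : ZMod M) (ha : TorZ Q M 1 a) (ha' : PReg M p a)
    (l : G →* ℂˣ) (hl : ∀ x ∈ Hom Q M n, R.om (twist Q M a x) = (fun g => (l g : ℂ)) * R.om x) :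
    Nat.card {i : IBr V G // i ∈ ibrUnder V B ∧ (fun g => (l g : ℂ) * phi p i g) = phi p i} ≤ nfix Q M p t a := by
  classical
  have := isPrime_of_isPModular h𝔐
  have : Fact p.Prime := ⟨h𝔐.1⟩
  have : CharP (IsLocalRing.ResidueField V) p := hV.charP h𝔐
  have hφ : LinearIndependent ℂ (phi p : IBr V G → _) := linearIndependent_phi
  let κ := {t : LabZ Q M m n // POnly M p t.t}
  let b : κ → (G → ℂ) := fun t => R.om (tauP Q M p (SchP Q M t.1.t))
  have hb : LinearIndependent ℂ b := by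
    refine LinearIndependent.map_injOn hli R.om (R.om_injOn.mono ?_)
    refine SetLike.coe_subset_coe.2 (Submodule.span_le.2 ?_)
    rintro _ ⟨t, rfl⟩
    exact tauP_mem_hom p (schP_mem_hom R.unit t.1)
  have hfinκ : Finite κ := hb.finite
  have hfinι : Finite (IBr V G) := hφ.finite
  have key : ∀ i : IBr V G, ∃ t₁ : LabZ Q M m n,
      phi p i ∈ Submodule.span ℂ (b '' {t' | SameFam Q M p t₁.t t'.1.t}) := by
    intro i
    obtain ⟨χ₁, hχ₁⟩ := exists_under h𝔐 hV i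
    obtain ⟨t₁, ht₁, -⟩ := hlab.1 χ₁
    have hB₁ : IsPBlock 𝔐 (blockOf 𝔐 (χ₁ : G → ℂ)) := ⟨χ₁, rfl⟩
    exact ⟨t₁, R.phi_mem_span h𝔐 hV hm hlab hmem hB₁ (mem_blockOf_self χ₁) ht₁ ⟨χ₁, mem_blockOf_self χ₁, hχ₁⟩⟩
  have hs : Submodule.span ℂ (Set.range (phi p : IBr V G → _)) = Submodule.span ℂ (Set.range b) := by
    refine le_antisymm (Submodule.span_le.2 ?_) (Submodule.span_le.2 ?_)
    · rintro _ ⟨i, rfl⟩
      obtain ⟨t₁, h1⟩ := key i
      exact Submodule.span_mono (Set.image_subset_range _ _) h1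
    · rintro _ ⟨t₁, rfl⟩
      obtain ⟨χ₁, ⟨s, hs⟩, -⟩ := hlab.2 t₁.1
      have h1 : b t₁ = (((s : ℤ) : ℂ)) • pReg p (χ₁ : G → ℂ) := by
        show R.om _ = _
        rw [R.om_tauP, hs, map_smul]
      rw [SetLike.mem_coe, h1]
      exact Submodule.smul_mem _ _ (Submodule.span_mono (Set.image_subset_range _ _) (pReg_mem_span h𝔐 hV χ₁))
  let T : (G → ℂ) →ₗ[ℂ] (G → ℂ) := LinearMap.mulLeft ℂ (fun g => (l g : ℂ))
  have hσ' : ∀ i : IBr V G, ∃ i' : IBr V G, T (phi p i) = phi p i' := by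
    intro i
    obtain ⟨i', hi'⟩ := H666.Clif.exists_tw h𝔐 hV l i
    refine ⟨i', ?_⟩
    funext g
    rw [hi']
    rfl
  choose σ hσ using hσ'
  let ρ : κ → κ := fun t => ⟨shiftL t.1 ha, POnly.shift t.2 ha'⟩
  have hρ : ∀ t, T (b t) = b (ρ t) := by
    intro t
    have h1 : b t = pReg p (R.om (SchP Q M t.1.t)) := R.om_tauP t.1
    have h2 : b (ρ t) = pReg p (R.om (SchP Q M (shiftL t.1 ha).t)) := R.om_tauP (shiftL t.1 ha)
    have h3 := hl _ (schP_mem_hom R.unit t.1)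
    rw [H157.GLB.twist_SchP R.unit a ha t.1.t t.1.orb] at h3
    rw [h1, h2]
    funext g
    show (l g : ℂ) * _ = _
    by_cases hg : IsPRegular p g
    · rw [pReg_of hg, pReg_of hg]
      exact (congrFun h3 g).symm
    · rw [pReg_of_not hg, pReg_of_not hg, mul_zero]
  let L : Set κ := {t' | SameFam Q M p t.t t'.1.t}
  let I : Set (IBr V G) := {i | phi p i ∈ Submodule.span ℂ (b '' L)}
  have h2 : ∀ i ∉ I, phi p i ∈ Submodule.span ℂ (b '' Lᶜ) := by
    intro i hi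
    obtain ⟨t₁, h1⟩ := key i
    refine Submodule.span_mono (Set.image_mono ?_) h1
    intro t' ht' htL
    apply hi
    refine Submodule.span_mono (Set.image_mono ?_) h1
    intro t'' ht''
    exact SameFam.trans' htL (SameFam.trans' (SameFam.symm' ht') ht'')
  have h3 := card_fixed_eq hφ hb hs T σ ρ hσ hρ I L (fun i hi => hi) h2
  have h4 : Nat.card {i : IBr V G // i ∈ ibrUnder V B ∧ (fun g => (l g : ℂ) * phi p i g) = phi p i} ≤
      Nat.card {i // i ∈ I ∧ σ i = i} := by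
    refine Nat.card_le_card_of_injective (fun i => ⟨i.1,
      R.phi_mem_span h𝔐 hV hm hlab hmem hB hχ ht i.2.1, ?_⟩) ?_
    · apply hφ.injective
      rw [← hσ]
      exact i.2.2
    · intro i j hij
      exact Subtype.ext (congrArg (fun x => x.1) hij)
  refine h4.trans (h3.trans ?_).le
  unfold nfix
  refine Nat.card_congr
    { toFun := fun t' => ⟨t'.1.1, t'.1.2, t'.2.1, fun c => ?_⟩
      invFun := fun t' => ⟨⟨t'.1, t'.2.1⟩, t'.2.2.1, ?_⟩
      left_inv := fun _ => rfl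
      right_inv := fun _ => rfl }
  · have h5 := congrArg (fun x : κ => x.1.t (c + a)) t'.2.2
    have h6 : t'.1.1.t (c + a - a) = t'.1.1.t (c + a) := h5
    rw [add_sub_cancel_right] at h6
    exact h6.symm
  · apply Subtype.ext
    apply LabZ.ext
    funext c
    show t'.1.t (c - a) = t'.1.t c
    have h5 := t'.2.2.2 (c - a)
    rw [sub_add_cancel] at h5
    exact h5.symm

end Rz

/-! ### the instance `GL_n(F)` -/

section glsec

open Cfsg.Agent.H577.GLB.Real Cfsg.Agent.H614.GLn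

universe w

variable {F : Type u} [Field F] {K : Type w} [Field K] [Algebra F K] {θ : K →*₀ ℂ} {N M : ℕ} [NeZero M] {p : ℕ}

/-- **R4** -/
theorem tauReal (hctx : Ctx F θ N M) (hp : p.Prime) (hpF : p ≠ ringChar F) {n : ℕ} (hn : n ≤ N) :
    TauReal F θ M p n := by
  intro x hx
  rw [H501.GLn.Om_tauP hctx hp hpF hn hx.1, pReg_eq]

/-- the realization by the class functions of `GL_n(F)` -/
noncomputable def GLrz (hctx : Ctx F θ N M) (hp : p.Prime) (hpF : p ≠ ringChar F) {n : ℕ} (hn : n ≤ N) :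
    Rz (Nat.card F : ℤ) M p n (GL (Fin n) F) where
  om := OmL F θ M n
  unit := isUnit_card hctx
  iso _ hx _ hy := classInner_Om hctx hn hx hy
  tau := tauReal hctx hp hpF hn

/-- **R5** -/
theorem om_twist (hctx : Ctx F θ N M) {n : ℕ} (hn : n ≤ N) (a : ZMod M) (ha : TorZ (Nat.card F) M 1 a) :
    ∀ x ∈ Hom (Nat.card F : ℤ) M n, OmL F θ M n (twist (Nat.card F) M a x) =
      (fun g => (linHom F θ M n a g : ℂ)) * OmL F θ M n x := by
  have := hctx.finF
  intro x hx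
  funext g
  rw [Pi.mul_apply, linHom_apply]
  exact Om_twist' hctx hn a ha hx g

/-- **GB2.** Blocks are contained in families. -/
theorem sameFam_of_mem_of (hctx : Ctx F θ N M) (hpF : p ≠ ringChar F) {𝔐 : Ideal AlgInt} (h𝔐 : IsPModular p 𝔐)
    {m n : ℕ} (hn : n ≤ N) (hm : n ≤ m) (hlab : LabBij F θ M m n) {B : Set (IrrCharacter (GL (Fin n) F))}
    (hB : IsPBlock 𝔐 B) {χ χ' : IrrCharacter (GL (Fin n) F)} (hχ : χ ∈ B) (hχ' : χ' ∈ B)
    {t t' : LabZ (Nat.card F) M m n} (ht : IsLab θ M m n χ t) (ht' : IsLab θ M m n χ' t') :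
    SameFam (Nat.card F) M p t.t t'.t := by
  have := hctx.finF
  exact (GLrz hctx h𝔐.1 hpF hn).sameFam_of_mem h𝔐 hm hlab hB hχ hχ' ht ht'

end glsec

end Cfsg.Agent.H112.GLB
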