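import Cfsg.Agent.H112.GLB.Main
import Cfsg.Agent.H614.GLn.GB1

/-!
# HUB S4536: GB2, GB3, GB4, GB4' in the exact text of `tools/plans/S4536_gl.lean`
-/

set_option autoImplicit false
set_option linter.unusedVariables false

open Polynomial Cfsg
open scoped ComplexConjugate TensorProduct

namespace Cfsg.Agent.H577.GLB.Real

open Cfsg.Agent.H614.GLn Cfsg.Agent.H577.GLB.Std Cfsg.Agent.H657 Cfsg.Agent.Blocks.Covering

universe u v w

section
variable {F : Type u} [Field F] [Finite F] {K : Type w} [Field K] [Algebra F K] {θ : K →*₀ ℂ} {N M : ℕ} [NeZero M]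
  {p : ℕ}

variable {𝔐 : Ideal AlgInt} {V : ValuationSubring ℂ}

/-- GB2: blocks are contained in families -/
theorem sameFam_of_mem (hctx : Ctx F θ N M) (hpF : p ≠ ringChar F) (h𝔐 : IsPModular p 𝔐) {m n : ℕ}
    (hn : n ≤ N) (hm : n ≤ m) {B : Set (IrrCharacter (GL (Fin n) F))} (hB : IsPBlock 𝔐 B)
    {χ χ' : IrrCharacter (GL (Fin n) F)} (hχ : χ ∈ B) (hχ' : χ' ∈ B) {t t' : LabZ (Nat.card F) M m n}
    (ht : IsLab θ M m n χ t) (ht' : IsLab θ M m n χ' t') : SameFam (Nat.card F) M p t.t t'.t :=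
  H112.GLB.sameFam_of_mem_of hctx hpF h𝔐 hn hm (isLab_bij hctx hn hm) hB hχ hχ' ht ht'

/-- GB3: every block contains a character with labels of order prime to `p` -/
theorem exists_pOnly_mem (hctx : Ctx F θ N M) (hpF : p ≠ ringChar F) (h𝔐 : IsPModular p 𝔐) {m n : ℕ}
    (hn : n ≤ N) (hm : n ≤ m) {B : Set (IrrCharacter (GL (Fin n) F))} (hB : IsPBlock 𝔐 B) :
    ∃ χ ∈ B, ∃ t : LabZ (Nat.card F) M m n, IsLab θ M m n χ t ∧ POnly M p t.t :=
  H112.GLB.exists_pOnly_mem_lab hctx hpF h𝔐 hn hm (isLab_bij hctx hn hm) hB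

/-- GB4: the Brauer characters of a block fixed by a linear character of order prime to `p` -/
theorem card_fixed_le (hctx : Ctx F θ N M) (hpF : p ≠ ringChar F) (h𝔐 : IsPModular p 𝔐) (hV : Above 𝔐 V)
    {m n : ℕ} (hn : n ≤ N) (hm : n ≤ m) {B : Set (IrrCharacter (GL (Fin n) F))} (hB : IsPBlock 𝔐 B)
    {χ : IrrCharacter (GL (Fin n) F)} (hχ : χ ∈ B) {t : LabZ (Nat.card F) M m n} (ht : IsLab θ M m n χ t)
    (ht' : POnly M p t.t) (a : ZMod M) (ha : TorZ (Nat.card F) M 1 a) (ha' : PReg M p a) :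
    Nat.card {i : IBr V (GL (Fin n) F) // i ∈ ibrUnder V B ∧
      (fun g => lin F θ M a (Matrix.GeneralLinearGroup.det g) * phi p i g) = phi p i} ≤
      nfix (Nat.card F) M p t a :=
  H112.GLB.card_fixed_le_lab hctx hpF h𝔐 hV hn hm (isLab_bij hctx hn hm) hB hχ ht ht' a ha ha'

/-- GB4': a linear character of order prime to `p` stabilising the block stabilises the family -/
theorem stab_of_block (hctx : Ctx F θ N M) (hpF : p ≠ ringChar F) (h𝔐 : IsPModular p 𝔐)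
    {m n : ℕ} (hn : n ≤ N) (hm : n ≤ m) {B : Set (IrrCharacter (GL (Fin n) F))} (hB : IsPBlock 𝔐 B)
    {χ χ' : IrrCharacter (GL (Fin n) F)} (hχ : χ ∈ B) (hχ' : χ' ∈ B) {t : LabZ (Nat.card F) M m n}
    (ht : IsLab θ M m n χ t) (ht' : POnly M p t.t) (a : ZMod M) (ha : TorZ (Nat.card F) M 1 a)
    (ha' : PReg M p a)
    (h : ∀ g, (χ' : GL (Fin n) F → ℂ) g = lin F θ M a (Matrix.GeneralLinearGroup.det g) * (χ : GL (Fin n) F → ℂ) g) :
    Stab (Nat.card F) M p t a :=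
  H112.GLB.stab_of_block_lab hctx hpF h𝔐 hn hm (isLab_bij hctx hn hm) hB hχ hχ' ht ht' a ha ha' h

/-- the families are unions of blocks -/
theorem isUnion_famSet (hctx : Ctx F θ N M) (hpF : p ≠ ringChar F) (h𝔐 : IsPModular p 𝔐) {m n : ℕ}
    (hn : n ≤ N) (hm : n ≤ m) (t₀ : LabZ (Nat.card F) M m n) :
    H608.BlockRank.IsUnion 𝔐 (famSet θ p t₀) :=
  H112.GLB.isUnion_famSet_lab hctx hpF h𝔐 hn hm (isLab_bij hctx hn hm) t₀

end
end Cfsg.Agent.H577.GLB.Real
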