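import Cfsg.Agent.H577.GLB.Lab
import Cfsg.Agent.H614.GLn.RSLab
import Cfsg.Agent.H623.GLn.Real
import Cfsg.Agent.H666.Clif.TwistIBr
import Cfsg.Agent.H76.GLB.Lower
import Cfsg.Agent.H157.GLB.DA
import Cfsg.Agent.H809.GLB.Twist
import Mathlib.LinearAlgebra.Trace

set_option autoImplicit false
set_option linter.unusedSectionVars false

open Cfsg
open scoped ComplexConjugate

namespace Cfsg.Agent.H112.GLB

/-!
# HUB S4536, task 5577 (GB3, GB4, GB4'): blocks of `GL_n(F)` and labels of order prime to `p`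

* `card_fixed_eq` : two bases permuted by an operator, adapted to a decomposition (traces);
* `schP_mem_hom`, `tauP_mem_hom`, `eq_zero_of_form` : the standard model;
* `isUnit_card`, `OmL`, `classInner_Om`, `Om_injOn` : the realization is an isometry on the class functions;
* `exists_pOnly_mem_of`, `stab_of_block_of`, `card_fixed_le_of` : `exists_pOnly_mem`, `stab_of_block` and
  `card_fixed_le` of `tools/plans/S4536_gl.lean`, with (GB1) `LabBij`, (R4) `TauReal`, (GB2) and the statements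
  DC of the standard model as hypotheses;
* `phi_mem_span` : the Brauer characters of a block are combinations of the truncations of the `p'`-labelled
  characters of its family.
-/

/-! ### linear algebra -/

section la

open Module

open Classical in
theorem trace_eq_card {W τ : Type*} [AddCommGroup W] [Module ℂ W] [Fintype τ] (X : W →ₗ[ℂ] W) (B : Basis τ ℂ W)
    (S : Set τ) (π : τ → τ) (hB : ∀ i, X (B i) = if i ∈ S then B (π i) else 0) :
    LinearMap.trace ℂ W X = (Nat.card {i // i ∈ S ∧ π i = i} : ℂ) := by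
  rw [LinearMap.trace_eq_matrix_trace ℂ B, Matrix.trace]
  have h4 : ∀ i, Matrix.diag (LinearMap.toMatrix B B X) i = if i ∈ S ∧ π i = i then 1 else 0 := by
    intro i
    rw [Matrix.diag_apply, LinearMap.toMatrix_apply, hB]
    by_cases h : i ∈ S
    · rw [if_pos h, B.repr_self]
      by_cases h' : π i = i
      · rw [if_pos ⟨h, h'⟩, h', Finsupp.single_eq_same]
      · rw [if_neg (fun h'' => h' h''.2), Finsupp.single_apply, if_neg h']
    · rw [if_neg h, if_neg (fun h'' => h h''.1), map_zero, Finsupp.zero_apply]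
  rw [Finset.sum_congr rfl fun i _ => h4 i, Finset.sum_boole, Nat.card_eq_fintype_card, Fintype.card_subtype]

open Classical in
/-- Two bases of the same space permuted by an operator, adapted to the same decomposition: the same number of
fixed members in corresponding parts. -/
theorem card_fixed_eq {E ι κ : Type*} [AddCommGroup E] [Module ℂ E] [Finite ι] [Finite κ] {φ : ι → E} {b : κ → E}
    (hφ : LinearIndependent ℂ φ) (hb : LinearIndependent ℂ b)
    (hs : Submodule.span ℂ (Set.range φ) = Submodule.span ℂ (Set.range b)) (T : E →ₗ[ℂ] E) (σ : ι → ι) (ρ : κ → κ)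
    (hσ : ∀ i, T (φ i) = φ (σ i)) (hρ : ∀ t, T (b t) = b (ρ t)) (I : Set ι) (L : Set κ)
    (h1 : ∀ i ∈ I, φ i ∈ Submodule.span ℂ (b '' L)) (h2 : ∀ i ∉ I, φ i ∈ Submodule.span ℂ (b '' Lᶜ)) :
    Nat.card {i // i ∈ I ∧ σ i = i} = Nat.card {t // t ∈ L ∧ ρ t = t} := by
  have := Fintype.ofFinite ι
  have := Fintype.ofFinite κ
  set W := Submodule.span ℂ (Set.range b) with hW
  let bb : Basis κ ℂ W := Basis.span hb
  let ff : Basis ι ℂ W := (Basis.span hφ).map (LinearEquiv.ofEq _ _ hs)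
  have hbb : ∀ t, (bb t : E) = b t := fun t => congrArg Subtype.val (Basis.span_apply hb t)
  have hff : ∀ i, (ff i : E) = φ i := fun i => by
    rw [Basis.map_apply]
    exact congrArg Subtype.val (Basis.span_apply hφ i)
  let X : W →ₗ[ℂ] W := bb.constr ℂ fun t => if t ∈ L then bb (ρ t) else 0
  have hXb : ∀ t, X (bb t) = if t ∈ L then bb (ρ t) else 0 := fun t => bb.constr_basis ℂ _ t
  have hX1 : ∀ (x : E) (hx : x ∈ W), x ∈ Submodule.span ℂ (b '' L) → ((X ⟨x, hx⟩ : W) : E) = T x := by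
    have key : Submodule.span ℂ (b '' L) ≤
        (LinearMap.eqLocus (W.subtype.comp X) (T.comp W.subtype)).map W.subtype := by
      rw [Submodule.span_le]
      rintro _ ⟨t, ht, rfl⟩
      refine ⟨bb t, ?_, hbb t⟩
      show ((X (bb t) : W) : E) = T (bb t : E)
      rw [hXb, if_pos ht, hbb, hbb, hρ]
    intro x hx hx'
    obtain ⟨w, hw, rfl⟩ := key hx'
    exact hw
  have hX2 : ∀ (x : E) (hx : x ∈ W), x ∈ Submodule.span ℂ (b '' Lᶜ) → X ⟨x, hx⟩ = 0 := by
    have key : Submodule.span ℂ (b '' Lᶜ) ≤ (LinearMap.ker X).map W.subtype := by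
      rw [Submodule.span_le]
      rintro _ ⟨t, ht, rfl⟩
      refine ⟨bb t, ?_, hbb t⟩
      show X (bb t) = 0
      rw [hXb, if_neg ht]
    intro x hx hx'
    obtain ⟨w, hw, rfl⟩ := key hx'
    exact hw
  have hXf : ∀ i, X (ff i) = if i ∈ I then ff (σ i) else 0 := by
    intro i
    have hi : φ i ∈ W := by rw [← hff]; exact (ff i).2
    have h3 : ff i = ⟨φ i, hi⟩ := Subtype.ext (hff i)
    by_cases h : i ∈ I
    · rw [if_pos h, h3]
      apply Subtype.ext
      rw [hX1 _ hi (h1 i h), hff, hσ]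
    · rw [if_neg h, h3, hX2 _ hi (h2 i h)]
  have h5 := (trace_eq_card X ff I σ hXf).symm.trans (trace_eq_card X bb L ρ hXb)
  exact_mod_cast h5

end la

/-! ### the standard model: homogeneity -/

section std

open MvPolynomial Cfsg.Agent.H577.GLB.Std Cfsg.Agent.H614 Cfsg.Agent.H614.GLn.RSt

variable {Q : ℤ} {M : ℕ}

theorem rv_mem_hom (k : ℕ) (c : ZMod M) : rv Q M k c ∈ Hom Q M k := by
  refine ⟨Algebra.subset_adjoin ⟨(k, c), rfl⟩, ?_⟩
  show IsWeightedHomogeneous (fun v : Var M => v.1) (rv Q M k c) k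
  unfold rv
  split_ifs
  · exact isWeightedHomogeneous_X ℂ (fun v : Var M => v.1) (k, canon Q M c)
  · exact isWeightedHomogeneous_zero ℂ _ _

theorem one_mem_hom : (1 : RS M) ∈ Hom Q M 0 :=
  ⟨Subalgebra.one_mem _, isWeightedHomogeneous_one ℂ _⟩

theorem mul_mem_hom {a b : ℕ} {x y : RS M} (hx : x ∈ Hom Q M a) (hy : y ∈ Hom Q M b) : x * y ∈ Hom Q M (a + b) :=
  ⟨Subalgebra.mul_mem _ hx.1 hy.1, IsWeightedHomogeneous.mul hx.2 hy.2⟩

theorem pow_mem_hom {a : ℕ} {x : RS M} (hx : x ∈ Hom Q M a) (k : ℕ) : x ^ k ∈ Hom Q M (k * a) := by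
  induction k with
  | zero => rw [pow_zero, zero_mul]; exact one_mem_hom
  | succ k ih => rw [pow_succ, Nat.add_mul, one_mul]; exact mul_mem_hom ih hx

theorem mprod_mem_hom (f : ℕ → RS M) (w : ℕ → ℕ) (s : Multiset ℕ) (h : ∀ j ∈ s, f j ∈ Hom Q M (w j)) :
    (s.map f).prod ∈ Hom Q M ((s.map w).sum) := by
  induction s using Multiset.induction_on with
  | empty => simpa using one_mem_hom
  | cons a s ih =>
    rw [Multiset.map_cons f, Multiset.prod_cons, Multiset.map_cons w, Multiset.sum_cons]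
    exact mul_mem_hom (h a (Multiset.mem_cons_self a s)) (ih fun j hj => h j (Multiset.mem_cons_of_mem hj))

theorem prod_mem_hom {ι : Type*} (f : ι → RS M) (w : ι → ℕ) (s : Finset ι) (h : ∀ j ∈ s, f j ∈ Hom Q M (w j)) :
    ∏ j ∈ s, f j ∈ Hom Q M (∑ j ∈ s, w j) := by
  classical
  induction s using Finset.induction_on with
  | empty => simpa using one_mem_hom
  | insert a s ha ih =>
    rw [Finset.prod_insert ha, Finset.sum_insert ha]
    exact mul_mem_hom (h a (Finset.mem_insert_self a s)) (ih fun j hj => h j (Finset.mem_insert_of_mem hj))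

theorem sch_mem_hom {m : ℕ} (c : ZMod M) (β : Fin m → ℕ) : Sch Q M c β ∈ Hom Q M (perZ Q M c * bsz β) := by
  unfold Sch
  refine Submodule.sum_mem _ fun ν _ => Submodule.smul_mem _ _ ?_
  have h := mprod_mem_hom (Q := Q) (fun j => Pw Q M j c) (fun j => j * perZ Q M c) ν.parts fun j _ => rv_mem_hom _ _
  have h2 : (ν.parts.map fun j => j * perZ Q M c).sum = perZ Q M c * bsz β := by
    rw [Multiset.sum_map_mul_right, Multiset.map_id', ν.parts_sum, mul_comm]
    rfl
  rwa [h2] at h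

theorem tauP_X_mem [NeZero M] (p : ℕ) (v : Var M) : tauP Q M p (X v) ∈ Hom Q M v.1 := by
  rw [tauP, aeval_X]
  exact Submodule.smul_mem _ _ (Submodule.sum_mem _ fun η _ => rv_mem_hom _ _)

theorem tauP_mem_hom [NeZero M] (p : ℕ) {n : ℕ} {x : RS M} (hx : x ∈ Hom Q M n) : tauP Q M p x ∈ Hom Q M n := by
  rw [x.as_sum, map_sum]
  refine Submodule.sum_mem _ fun m hm => ?_
  have h1 : tauP Q M p (monomial m (x.coeff m)) = x.coeff m • ∏ v ∈ m.support, tauP Q M p (X v) ^ m v := by
    rw [monomial_eq, map_mul, Algebra.smul_def, Finsupp.prod, map_prod]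
    congr 1
    · exact (tauP Q M p).commutes _
    · exact Finset.prod_congr rfl fun v _ => map_pow _ _ _
  rw [h1]
  refine Submodule.smul_mem _ _ ?_
  have h2 := prod_mem_hom (Q := Q) (fun v : Var M => tauP Q M p (X v) ^ m v) (fun v => m v * v.1) m.support
    fun v _ => pow_mem_hom (tauP_X_mem p v) _
  have h3 : ∑ v ∈ m.support, m v * v.1 = n := by
    have h4 := H623.GLn.Hom.weight hx hm
    rw [← h4, Finsupp.weight_apply, Finsupp.sum]
    exact Finset.sum_congr rfl fun v _ => (smul_eq_mul _ _).symm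
  rwa [h3] at h2

theorem schP_mem_hom [NeZero M] (hQ : IsUnit (Q : ZMod M)) {m n : ℕ} (t : LabZ Q M m n) :
    SchP Q M t.t ∈ Hom Q M n := by
  classical
  unfold SchP
  have h := prod_mem_hom (Q := Q) (fun c : ZMod M => Sch Q M c (t.t c)) (fun c => perZ Q M c * bsz (t.t c))
    (Finset.univ.filter fun c : ZMod M => canon Q M c = c) fun c _ => sch_mem_hom c _
  have h2 : ∑ c ∈ Finset.univ.filter (fun c : ZMod M => canon Q M c = c), perZ Q M c * bsz (t.t c) = n := by
    refine Eq.trans ?_ t.sum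
    rw [← Finset.sum_fiberwise_of_maps_to (s := (Finset.univ : Finset (ZMod M)))
      (t := Finset.univ.filter fun c : ZMod M => canon Q M c = c) (g := canon Q M)
      (fun c _ => Finset.mem_filter.2 ⟨Finset.mem_univ _, canon_canon hQ c⟩)]
    refine Finset.sum_congr rfl fun d hd => ?_
    have hd' : canon Q M d = d := (Finset.mem_filter.1 hd).2
    have h3 : (Finset.univ.filter fun c : ZMod M => canon Q M c = d) = Finset.univ.filter fun c => SameZ Q M d c := by
      ext c
      rw [Finset.mem_filter, Finset.mem_filter]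
      refine and_congr_right fun _ => ?_
      rw [← canon_eq_iff hQ, hd']
      exact eq_comm
    rw [h3, Finset.sum_congr rfl fun c hc => by
      rw [H76.GLB.orb_same t (Finset.mem_filter.1 hc).2], Finset.sum_const, H76.GLB.card_same hQ, smul_eq_mul]
  rwa [h2] at h

/-- The Wick form is positive definite. -/
theorem eq_zero_of_form [NeZero M] {n : ℕ} {x : RS M} (hx : x ∈ Hom Q M n) (h : form Q M x x = 0) : x = 0 := by
  classical
  have h1 : form Q M x x = ((∑ m ∈ x.support, Complex.normSq (x.coeff m) *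
      ∏ v ∈ m.support, (((m v).factorial : ℝ) * (H577.GLB.Std.zz Q M v : ℝ) ^ m v) : ℝ) : ℂ) := by
    unfold form
    rw [Complex.ofReal_sum]
    refine Finset.sum_congr rfl fun m _ => ?_
    rw [Complex.mul_conj, Complex.ofReal_mul, Complex.ofReal_prod, Finsupp.prod]
    congr 1
    refine Finset.prod_congr rfl fun v _ => ?_
    push_cast
    rfl
  rw [h1, Complex.ofReal_eq_zero] at h
  have hpos : ∀ m ∈ x.support, 0 < ∏ v ∈ m.support, (((m v).factorial : ℝ) * (H577.GLB.Std.zz Q M v : ℝ) ^ m v) := by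
    intro m hm
    refine Finset.prod_pos fun v hv => mul_pos (by exact_mod_cast Nat.factorial_pos _) (pow_pos ?_ _)
    have h2 := H623.GLn.Hom.genVar hx hm hv
    have h3 : 0 < H577.GLB.Std.zz Q M v := by
      unfold H577.GLB.Std.zz
      refine Finset.card_pos.2 ⟨0, Finset.mem_filter.2 ⟨Finset.mem_range.2 h2.1, ?_⟩⟩
      rw [pow_zero, one_mul]
    exact_mod_cast h3
  rw [Finset.sum_eq_zero_iff_of_nonneg fun m hm => mul_nonneg (Complex.normSq_nonneg _) (hpos m hm).le] at h
  by_contra hne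
  obtain ⟨m, hm⟩ := (MvPolynomial.support_nonempty.2 hne)
  rcases mul_eq_zero.1 (h m hm) with h2 | h2
  · exact (mem_support_iff.1 hm) (Complex.normSq_eq_zero.1 h2)
  · exact (hpos m hm).ne' h2

end std

/-! ### the realization -/

section real

open Cfsg.Agent.H577.GLB.Std Cfsg.Agent.H577.GLB.Real Cfsg.Agent.H614 Cfsg.Agent.H614.GLn
open Cfsg.Agent.H657 Cfsg.Agent.H608.BlockRank Cfsg.Agent.Blocks.Basic Cfsg.Agent.Blocks.Local

universe u w

variable {F : Type u} [Field F] {K : Type w} [Field K] [Algebra F K] {θ : K →*₀ ℂ} {N M : ℕ}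

/-- the size of the field is a unit modulo `M` -/
theorem isUnit_card (hctx : Ctx F θ N M) : IsUnit (((Nat.card F : ℕ) : ℤ) : ZMod M) := by
  have := hctx.finF
  have := hctx.finK
  have h1 : Nat.card K = Nat.card F ^ Module.finrank F K := Module.natCard_eq_pow_finrank
  have h2 : Nat.card Kˣ = Nat.card K - 1 := Nat.card_units K
  have h3 : 0 < Nat.card K := Nat.card_pos
  rw [Int.cast_natCast, ZMod.isUnit_iff_coprime, ← hctx.card, h2]
  have h4 : (Nat.card K).Coprime (Nat.card K - 1) := by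
    rw [Nat.coprime_self_sub_right h3]
    exact Nat.coprime_one_right _
  rw [h1] at h4 ⊢
  exact Nat.Coprime.coprime_dvd_left (dvd_pow_self _ Module.finrank_pos.ne') h4

/-- the realization as a linear map -/
noncomputable def OmL (F : Type u) [Field F] {K : Type w} [Field K] [Algebra F K] (θ : K →*₀ ℂ) (M n : ℕ) :
    RS M →ₗ[ℂ] (GL (Fin n) F → ℂ) where
  toFun x := Om θ M n x
  map_add' x y := by
    funext g
    rw [Om, map_add]
    rfl
  map_smul' c x := by
    funext g
    rw [Om, map_smul]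
    rfl

theorem OmL_apply (n : ℕ) (x : RS M) : OmL F θ M n x = Om (F := F) θ M n x := rfl

/-- **The realization is an isometry.** -/
theorem classInner_Om [NeZero M] (hctx : Ctx F θ N M) {n : ℕ} (hn : n ≤ N) [Fintype (GL (Fin n) F)] {x y : RS M}
    (hx : x ∈ Hom (Nat.card F : ℤ) M n) (hy : y ∈ Hom (Nat.card F : ℤ) M n) :
    classInner (Om (F := F) θ M n x) (Om (F := F) θ M n y) = form (Nat.card F : ℤ) M x y := by
  rw [← H623.GLn.ip_piA hctx hn hx hy, Cfsg.classInner, ip]
  let e : GL (Fin n) F ≃ ((Fin n → F) →ₗ[F] (Fin n → F))ˣ := (Matrix.GeneralLinearGroup.toLin (n := Fin n) (R := F)).toEquiv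
  rw [Nat.card_congr e]
  congr 1
  rw [← finsum_comp_equiv e, finsum_eq_sum_of_fintype]
  rfl

/-- The realization is injective on the homogeneous elements. -/
theorem Om_injOn [NeZero M] (hctx : Ctx F θ N M) {n : ℕ} (hn : n ≤ N) :
    Set.InjOn (OmL F θ M n) (Hom (Nat.card F : ℤ) M n : Submodule ℂ (RS M)) := by
  have := hctx.finF
  have : Fintype (GL (Fin n) F) := Fintype.ofFinite _
  intro x hx y hy hxy
  rw [← sub_eq_zero]
  refine eq_zero_of_form (Q := (Nat.card F : ℤ)) (n := n) (Submodule.sub_mem _ hx hy) ?_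
  rw [← classInner_Om hctx hn (Submodule.sub_mem _ hx hy) (Submodule.sub_mem _ hx hy), ← OmL_apply, map_sub, hxy,
    sub_self, Cfsg.classInner]
  simp

section main

variable [Finite F] [NeZero M] {p : ℕ} {𝔐 : Ideal AlgInt} {V : ValuationSubring ℂ}

/-- (GB1) the labels of the irreducible characters -/
def LabBij (F : Type u) [Field F] {K : Type w} [Field K] [Algebra F K] (θ : K →*₀ ℂ) (M m n : ℕ) [NeZero M] : Prop :=
  (∀ χ : IrrCharacter (GL (Fin n) F), ∃! t : LabZ (Nat.card F) M m n, IsLab θ M m n χ t) ∧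
    (∀ t : LabZ (Nat.card F) M m n, ∃! χ : IrrCharacter (GL (Fin n) F), IsLab θ M m n χ t)

/-- (R4) truncation to the `p`-regular elements -/
def TauReal (F : Type u) [Field F] {K : Type w} [Field K] [Algebra F K] (θ : K →*₀ ℂ) (M p n : ℕ) [NeZero M] :
    Prop :=
  ∀ x ∈ Hom (Nat.card F : ℤ) M n, Om (F := F) θ M n (tauP (Nat.card F) M p x) = pReg p (Om (F := F) θ M n x)

theorem om_tauP (hctx : Ctx F θ N M) {m n : ℕ} (hR4 : TauReal F θ M p n) (t : LabZ (Nat.card F) M m n) :
    Om (F := F) θ M n (tauP (Nat.card F) M p (SchP (Nat.card F) M t.t)) =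
      pReg p (Om (F := F) θ M n (SchP (Nat.card F) M t.t)) :=
  hR4 _ (schP_mem_hom (isUnit_card hctx) t)

/-- Irreducible characters outside `B` are orthogonal to the span of `B`. -/
theorem classInner_eq_zero {G : Type u} [Group G] [Fintype G] {B : Set (IrrCharacter G)} {f : G → ℂ}
    (hf : f ∈ charSpan B) {ψ : IrrCharacter G} (hψ : ψ ∉ B) : classInner f (ψ : G → ℂ) = 0 := by
  unfold charSpan at hf
  induction hf using Submodule.span_induction with
  | mem f h =>
    obtain ⟨χ, hχ, rfl⟩ := h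
    refine Characters.Core.classInner_irr_ne χ.2 ψ.2 fun h => hψ ?_
    rwa [← Subtype.ext h]
  | zero => exact Characters.Core.classInner_zero_left _
  | add f f' _ _ h h' => rw [Characters.Core.classInner_add_left, h, h', add_zero]
  | smul c f _ h => rw [Characters.Core.classInner_smul_left, h, mul_zero]

/-- **GB3 (D2').** Every block contains a character with labels of order prime to `p`. -/
theorem exists_pOnly_mem_of (hctx : Ctx F θ N M) (h𝔐 : IsPModular p 𝔐) {m n : ℕ} (hn : n ≤ N)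
    (hlab : LabBij F θ M m n) (hR4 : TauReal F θ M p n)
    (hPO : ∀ S : Set (LabZ (Nat.card F) M m n), S.Nonempty →
      (∀ t ∈ S, ∀ t' ∉ S, form (Nat.card F) M (tauP (Nat.card F) M p (SchP (Nat.card F) M t.t))
        (SchP (Nat.card F) M t'.t) = 0) → ∃ t ∈ S, POnly M p t.t)
    {B : Set (IrrCharacter (GL (Fin n) F))} (hB : IsPBlock 𝔐 B) :
    ∃ χ ∈ B, ∃ t : LabZ (Nat.card F) M m n, IsLab θ M m n χ t ∧ POnly M p t.t := by
  have := isPrime_of_isPModular h𝔐
  have : Fintype (GL (Fin n) F) := Fintype.ofFinite _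
  obtain ⟨χ₀, hχ₀⟩ := id hB
  obtain ⟨t, ⟨χ, hχ, hχt⟩, ht⟩ := hPO {t | ∃ χ ∈ B, IsLab θ M m n χ t}
    (by
      obtain ⟨t, ht, -⟩ := hlab.1 χ₀
      exact ⟨t, χ₀, by rw [hχ₀]; exact mem_blockOf_self χ₀, ht⟩)
    (by
      rintro t ⟨χ, hχ, s, hs⟩ t' ht'
      obtain ⟨χ', ⟨s', hs'⟩, -⟩ := hlab.2 t'
      have hχ' : χ' ∉ B := fun h => ht' ⟨χ', h, s', hs'⟩
      rw [← classInner_Om hctx hn (tauP_mem_hom p (schP_mem_hom (isUnit_card hctx) t))
        (schP_mem_hom (isUnit_card hctx) t'), om_tauP hctx hR4, hs, hs', map_smul,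
        Characters.Core.classInner_smul_left, Characters.Core.classInner_smul_right,
        classInner_eq_zero (map_pReg_le h𝔐 (isUnion_of_isPBlock hB) ⟨_, Submodule.subset_span ⟨χ, hχ, rfl⟩, rfl⟩) hχ',
        mul_zero, mul_zero])
  exact ⟨χ, hχ, t, hχt, ht⟩

/-- the translation of a label -/
def shiftL {Q : ℤ} {m n : ℕ} (t : LabZ Q M m n) {a : ZMod M} (ha : TorZ Q M 1 a) : LabZ Q M m n where
  t c := t.t (c - a)
  mono c := t.mono _
  orb c := by
    have h1 : (Q : ZMod M) * a = a := by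
      unfold TorZ at ha
      rwa [pow_one, sub_mul, one_mul, sub_eq_zero] at ha
    rw [← t.orb (c - a), mul_sub, h1]
  sum := (Equiv.sum_comp (Equiv.subRight a) fun c => H577.GLB.Std.bsz (t.t c)).trans t.sum

/-- the linear character with label `a` as a homomorphism -/
noncomputable def linHom (F : Type u) [Field F] {K : Type w} [Field K] [Algebra F K] (θ : K →*₀ ℂ) (M n : ℕ)
    (a : ZMod M) : GL (Fin n) F →* ℂˣ :=
  (powMonoidHom (expo (Nat.card F) M 1 a)).comp
    (((Units.map (θ : K →* ℂ)).comp (Units.map (algebraMap F K : F →* K))).comp Matrix.GeneralLinearGroup.det)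

theorem linHom_apply (n : ℕ) (a : ZMod M) (g : GL (Fin n) F) :
    (linHom F θ M n a g : ℂ) = lin F θ M a (Matrix.GeneralLinearGroup.det g) := by
  unfold linHom lin
  simp

theorem lin_mul_Om (hctx : Ctx F θ N M) {m n : ℕ} (hn : n ≤ N) (t : LabZ (Nat.card F) M m n) {a : ZMod M}
    (ha : TorZ (Nat.card F) M 1 a) (g : GL (Fin n) F) :
    lin F θ M a (Matrix.GeneralLinearGroup.det g) * Om (F := F) θ M n (SchP (Nat.card F) M t.t) g =
      Om (F := F) θ M n (SchP (Nat.card F) M (shiftL t ha).t) g := by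
  have h1 := Om_twist' hctx hn a ha (schP_mem_hom (isUnit_card hctx) t) g
  rw [H157.GLB.twist_SchP (isUnit_card hctx) a ha t.t t.orb] at h1
  exact h1.symm

/-- **GB4'.** A linear character of order prime to `p` stabilising the block stabilises the family. -/
theorem stab_of_block_of (hctx : Ctx F θ N M) {m n : ℕ} (hn : n ≤ N) {B : Set (IrrCharacter (GL (Fin n) F))}
    (hfam : ∀ χ ∈ B, ∀ χ' ∈ B, ∀ t t' : LabZ (Nat.card F) M m n, IsLab θ M m n χ t → IsLab θ M m n χ' t' →
      SameFam (Nat.card F) M p t.t t'.t)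
    {χ χ' : IrrCharacter (GL (Fin n) F)} (hχ : χ ∈ B) (hχ' : χ' ∈ B) {t : LabZ (Nat.card F) M m n}
    (ht : IsLab θ M m n χ t) (a : ZMod M) (ha : TorZ (Nat.card F) M 1 a) (ha' : PReg M p a)
    (h : ∀ g, (χ' : GL (Fin n) F → ℂ) g =
      lin F θ M a (Matrix.GeneralLinearGroup.det g) * (χ : GL (Fin n) F → ℂ) g) :
    Stab (Nat.card F) M p t a := by
  refine ⟨ha, ha', hfam χ hχ χ' hχ' t (shiftL t ha) ht ?_⟩
  obtain ⟨s, hs⟩ := ht
  refine ⟨s, ?_⟩
  funext g
  rw [← lin_mul_Om hctx hn t ha g, hs, Pi.smul_apply, Pi.smul_apply, smul_eq_mul, smul_eq_mul, h]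
  ring

theorem SameFam.symm' {Q : ℤ} {m : ℕ} {t t' : ZMod M → Fin m → ℕ} (h : SameFam Q M p t t') : SameFam Q M p t' t :=
  fun δ hδ => ⟨(h δ hδ).1.symm, (h δ hδ).2.symm⟩

theorem SameFam.trans' {Q : ℤ} {m : ℕ} {t t' t'' : ZMod M → Fin m → ℕ} (h : SameFam Q M p t t')
    (h' : SameFam Q M p t' t'') : SameFam Q M p t t'' :=
  fun δ hδ => ⟨(h δ hδ).1.trans (h' δ hδ).1, (h δ hδ).2.trans (h' δ hδ).2⟩

theorem PReg.add {a b : ZMod M} (ha : PReg M p a) (hb : PReg M p b) : PReg M p (a + b) := by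
  unfold PReg at *
  refine Nat.Coprime.coprime_dvd_left ((AddCommute.all a b).addOrderOf_add_dvd_mul_addOrderOf) ?_
  exact Nat.Coprime.mul_left ha hb

theorem POnly.shift {m : ℕ} {t : ZMod M → Fin m → ℕ} (ht : POnly M p t) {a : ZMod M} (ha : PReg M p a) :
    POnly M p fun c => t (c - a) := by
  intro c hc
  refine ht (c - a) fun h => hc ?_
  have := PReg.add h ha
  rwa [sub_add_cancel] at this

/-- The Brauer characters of a block are combinations of the truncations of the `p'`-labelled characters in the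
family of the block. -/
theorem phi_mem_span (hctx : Ctx F θ N M) (h𝔐 : IsPModular p 𝔐) (hV : Above 𝔐 V) {m n : ℕ}
    (hlab : LabBij F θ M m n) (hR4 : TauReal F θ M p n)
    (hmem : ∀ t : LabZ (Nat.card F) M m n, tauP (Nat.card F) M p (SchP (Nat.card F) M t.t) ∈
      Submodule.span ℤ {x : RS M | ∃ t' : LabZ (Nat.card F) M m n, POnly M p t'.t ∧
        SameFam (Nat.card F) M p t.t t'.t ∧ x = tauP (Nat.card F) M p (SchP (Nat.card F) M t'.t)})
    {B : Set (IrrCharacter (GL (Fin n) F))} (hB : IsPBlock 𝔐 B)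
    (hfam : ∀ χ ∈ B, ∀ χ' ∈ B, ∀ t t' : LabZ (Nat.card F) M m n, IsLab θ M m n χ t → IsLab θ M m n χ' t' →
      SameFam (Nat.card F) M p t.t t'.t)
    {χ : IrrCharacter (GL (Fin n) F)} (hχ : χ ∈ B) {t : LabZ (Nat.card F) M m n} (ht : IsLab θ M m n χ t)
    {i : IBr V (GL (Fin n) F)} (hi : i ∈ ibrUnder V B) :
    phi p i ∈ Submodule.span ℂ ((fun t' : {t : LabZ (Nat.card F) M m n // POnly M p t.t} =>
      OmL F θ M n (tauP (Nat.card F) M p (SchP (Nat.card F) M t'.1.t))) ''
        {t' | SameFam (Nat.card F) M p t.t t'.1.t}) := by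
  have := isPrime_of_isPModular h𝔐
  have h1 : phi p i ∈ (charSpan B).map (pReg p) := by
    rw [map_pReg_charSpan h𝔐 hV (isUnion_of_isPBlock hB)]
    exact Submodule.subset_span ⟨i, hi, rfl⟩
  refine (?_ : (charSpan B).map (pReg p) ≤ _) h1
  unfold charSpan
  rw [Submodule.map_span, Submodule.span_le]
  rintro _ ⟨_, ⟨χ₁, hχ₁, rfl⟩, rfl⟩
  obtain ⟨t₁, ht₁, -⟩ := hlab.1 χ₁
  have hf := hfam χ hχ χ₁ hχ₁ t t₁ ht ht₁
  obtain ⟨s, hs⟩ := ht₁
  have h2 : pReg p (χ₁ : GL (Fin n) F → ℂ) =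
      (((s : ℤ) : ℂ)) • OmL F θ M n (tauP (Nat.card F) M p (SchP (Nat.card F) M t₁.t)) := by
    rw [OmL_apply, om_tauP hctx hR4, hs, map_smul, smul_smul]
    have h3 : (((s : ℤ) : ℂ)) * (((s : ℤ) : ℂ)) = 1 := by
      rcases Int.units_eq_one_or s with rfl | rfl <;> norm_num
    rw [h3, one_smul]
  rw [SetLike.mem_coe, h2]
  refine Submodule.smul_mem _ _ ?_
  have h4 := Submodule.span_subset_span ℤ ℂ _ (hmem t₁)
  have h5 := Submodule.mem_map_of_mem (f := OmL F θ M n) h4
  rw [Submodule.map_span] at h5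
  refine Submodule.span_mono ?_ h5
  rintro _ ⟨_, ⟨t', h6, h7, rfl⟩, rfl⟩
  exact ⟨⟨t', h6⟩, SameFam.trans' hf h7, rfl⟩

/-- **GB4.** The Brauer characters of a block fixed by a linear character of order prime to `p`. -/
theorem card_fixed_le_of (hctx : Ctx F θ N M) (h𝔐 : IsPModular p 𝔐) (hV : Above 𝔐 V) {m n : ℕ} (hn : n ≤ N)
    (hlab : LabBij F θ M m n) (hR4 : TauReal F θ M p n)
    (hfam : ∀ B : Set (IrrCharacter (GL (Fin n) F)), IsPBlock 𝔐 B → ∀ χ ∈ B, ∀ χ' ∈ B,
      ∀ t t' : LabZ (Nat.card F) M m n, IsLab θ M m n χ t → IsLab θ M m n χ' t' →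
        SameFam (Nat.card F) M p t.t t'.t)
    (hmem : ∀ t : LabZ (Nat.card F) M m n, tauP (Nat.card F) M p (SchP (Nat.card F) M t.t) ∈
      Submodule.span ℤ {x : RS M | ∃ t' : LabZ (Nat.card F) M m n, POnly M p t'.t ∧
        SameFam (Nat.card F) M p t.t t'.t ∧ x = tauP (Nat.card F) M p (SchP (Nat.card F) M t'.t)})
    (hli : LinearIndependent ℂ (fun t : {t : LabZ (Nat.card F) M m n // POnly M p t.t} =>
      tauP (Nat.card F) M p (SchP (Nat.card F) M t.1.t)))
    {B : Set (IrrCharacter (GL (Fin n) F))} (hB : IsPBlock 𝔐 B)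
    {χ : IrrCharacter (GL (Fin n) F)} (hχ : χ ∈ B) {t : LabZ (Nat.card F) M m n} (ht : IsLab θ M m n χ t)
    (a : ZMod M) (ha : TorZ (Nat.card F) M 1 a) (ha' : PReg M p a) :
    Nat.card {i : IBr V (GL (Fin n) F) // i ∈ ibrUnder V B ∧
      (fun g => lin F θ M a (Matrix.GeneralLinearGroup.det g) * phi p i g) = phi p i} ≤
      nfix (Nat.card F) M p t a := by
  classical
  have := isPrime_of_isPModular h𝔐
  have : Fact p.Prime := ⟨h𝔐.1⟩
  have : CharP (IsLocalRing.ResidueField V) p := hV.charP h𝔐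
  have hφ : LinearIndependent ℂ (phi p : IBr V (GL (Fin n) F) → _) := linearIndependent_phi
  let κ := {t : LabZ (Nat.card F) M m n // POnly M p t.t}
  let b : κ → (GL (Fin n) F → ℂ) := fun t => OmL F θ M n (tauP (Nat.card F) M p (SchP (Nat.card F) M t.1.t))
  have hb : LinearIndependent ℂ b := by
    refine hli.map_injOn (OmL F θ M n) ((Om_injOn hctx hn).mono ?_)
    refine SetLike.coe_subset_coe.2 (Submodule.span_le.2 ?_)
    rintro _ ⟨t, rfl⟩
    exact tauP_mem_hom p (schP_mem_hom (isUnit_card hctx) t.1)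
  have hfinκ : Finite κ := hb.finite
  have hfinι : Finite (IBr V (GL (Fin n) F)) := hφ.finite
  -- every Brauer character is in the span of a family
  have key : ∀ i : IBr V (GL (Fin n) F), ∃ t₁ : LabZ (Nat.card F) M m n,
      phi p i ∈ Submodule.span ℂ (b '' {t' | SameFam (Nat.card F) M p t₁.t t'.1.t}) := by
    intro i
    obtain ⟨χ₁, hχ₁⟩ := exists_under h𝔐 hV i
    obtain ⟨t₁, ht₁, -⟩ := hlab.1 χ₁
    have hB₁ : IsPBlock 𝔐 (blockOf 𝔐 (χ₁ : GL (Fin n) F → ℂ)) := ⟨χ₁, rfl⟩
    exact ⟨t₁, phi_mem_span hctx h𝔐 hV hlab hR4 hmem hB₁ (hfam _ hB₁) (mem_blockOf_self χ₁) ht₁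
      ⟨χ₁, mem_blockOf_self χ₁, hχ₁⟩⟩
  have hs : Submodule.span ℂ (Set.range (phi p : IBr V (GL (Fin n) F) → _)) = Submodule.span ℂ (Set.range b) := by
    refine le_antisymm (Submodule.span_le.2 ?_) (Submodule.span_le.2 ?_)
    · rintro _ ⟨i, rfl⟩
      obtain ⟨t₁, h1⟩ := key i
      exact Submodule.span_mono (Set.image_subset_range _ _) h1
    · rintro _ ⟨t₁, rfl⟩
      obtain ⟨χ₁, ⟨s, hs⟩, -⟩ := hlab.2 t₁.1
      have h1 : b t₁ = (((s : ℤ) : ℂ)) • pReg p (χ₁ : GL (Fin n) F → ℂ) := by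
        show Om (F := F) θ M n _ = _
        rw [om_tauP hctx hR4, hs, map_smul]
      rw [SetLike.mem_coe, h1]
      exact Submodule.smul_mem _ _ (Submodule.span_mono (Set.image_subset_range _ _) (pReg_mem_span h𝔐 hV χ₁))
  -- the operator
  let l : GL (Fin n) F → ℂ := fun g => lin F θ M a (Matrix.GeneralLinearGroup.det g)
  let T : (GL (Fin n) F → ℂ) →ₗ[ℂ] (GL (Fin n) F → ℂ) := LinearMap.mulLeft ℂ l
  have hσ' : ∀ i : IBr V (GL (Fin n) F), ∃ i' : IBr V (GL (Fin n) F), T (phi p i) = phi p i' := by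
    intro i
    obtain ⟨i', hi'⟩ := H666.Clif.exists_tw h𝔐 hV (linHom F θ M n a) i
    refine ⟨i', ?_⟩
    funext g
    rw [hi', linHom_apply]
    rfl
  choose σ hσ using hσ'
  let ρ : κ → κ := fun t => ⟨shiftL t.1 ha, POnly.shift t.2 ha'⟩
  have hρ : ∀ t, T (b t) = b (ρ t) := by
    intro t
    have h1 : b t = pReg p (Om (F := F) θ M n (SchP (Nat.card F) M t.1.t)) := om_tauP hctx hR4 t.1
    have h2 : b (ρ t) = pReg p (Om (F := F) θ M n (SchP (Nat.card F) M (shiftL t.1 ha).t)) :=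
      om_tauP hctx hR4 (shiftL t.1 ha)
    rw [h1, h2]
    funext g
    show l g * _ = _
    by_cases hg : IsPRegular p g
    · rw [pReg_of hg, pReg_of hg]
      exact lin_mul_Om hctx hn t.1 ha g
    · rw [pReg_of_not hg, pReg_of_not hg, mul_zero]
  let L : Set κ := {t' | SameFam (Nat.card F) M p t.t t'.1.t}
  let I : Set (IBr V (GL (Fin n) F)) := {i | phi p i ∈ Submodule.span ℂ (b '' L)}
  have h2 : ∀ i ∉ I, phi p i ∈ Submodule.span ℂ (b '' Lᶜ) := by
    intro i hi
    obtain ⟨t₁, h1⟩ := key i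
    refine Submodule.span_mono (Set.image_mono ?_) h1
    intro t' ht' htL
    apply hi
    refine Submodule.span_mono (Set.image_mono ?_) h1
    intro t'' ht''
    exact SameFam.trans' htL (SameFam.trans' (SameFam.symm' ht') ht'')
  have h3 := card_fixed_eq hφ hb hs T σ ρ hσ hρ I L (fun i hi => hi) h2
  have h4 : Nat.card {i : IBr V (GL (Fin n) F) // i ∈ ibrUnder V B ∧
      (fun g => lin F θ M a (Matrix.GeneralLinearGroup.det g) * phi p i g) = phi p i} ≤
      Nat.card {i // i ∈ I ∧ σ i = i} := by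
    refine Nat.card_le_card_of_injective (fun i => ⟨i.1,
      phi_mem_span hctx h𝔐 hV hlab hR4 hmem hB (hfam B hB) hχ ht i.2.1, ?_⟩) ?_
    · apply hφ.injective
      rw [← hσ]
      exact i.2.2
    · intro i j hij
      exact Subtype.ext (congrArg (fun x => x.1) hij)
  refine h4.trans (h3.trans ?_).le
  unfold nfix
  refine Nat.card_congr
    { toFun := fun t' => ⟨t'.1.1, t'.1.2, t'.2.1, fun c => ?_⟩
      invFun := fun t' => ⟨⟨t'.1, t'.2.1⟩, t'.2.2.1, ?_⟩
      left_inv := fun _ => rfl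
      right_inv := fun _ => rfl }
  · have h5 := congrArg (fun x : κ => x.1.t (c + a)) t'.2.2
    have h6 : t'.1.1.t (c + a - a) = t'.1.1.t (c + a) := h5
    rw [add_sub_cancel_right] at h6
    exact h6.symm
  · apply Subtype.ext
    apply LabZ.ext
    funext c
    show t'.1.t (c - a) = t'.1.t c
    have h5 := t'.2.2.2 (c - a)
    rw [sub_add_cancel] at h5
    exact h5.symm

end main

end real

end Cfsg.Agent.H112.GLB
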